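import Groth.Agent.Hensel.Colim
import Groth.Agent.Hensel.LiftEtaleAlg
import Groth.Agent.IndEtLib.Sys
import Mathlib.RingTheory.Etale.Basic

/-! the henselization of an ind-etale algebra over a quotient -/

set_option autoImplicit false
universe u
open CategoryTheory

namespace Groth.Agent.Hensel

theorem henz_quotient (A : Type u) [CommRing A] (I : Ideal A) (Cb : Type u) [CommRing Cb]
    [Algebra A Cb] [Algebra (A ⧸ I) Cb] [IsScalarTower A (A ⧸ I) Cb] (h : EtPBC.IsIndEtale (A ⧸ I) Cb) :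
    (∀ z, Henz.proj A Cb z = 0 ↔ z ∈ I.map (algebraMap A (Henz A Cb))) ∧ Function.Surjective (Henz.proj A Cb) := by
  let C := Hensel.Henz A Cb
  obtain ⟨S, hS, ⟨e⟩⟩ := IndEtLib.exists_sys h
  let π : C →ₐ[A] Cb := Hensel.Henz.proj A Cb
  have hIπ : I.map (algebraMap A C) ≤ RingHom.ker π := Ideal.map_le_iff_le_comap.2 fun a ha => by
    show π (algebraMap A C a) = 0
    rw [AlgHom.commutes, IsScalarTower.algebraMap_apply A (A ⧸ I) Cb, Ideal.Quotient.algebraMap_eq,
      Ideal.Quotient.eq_zero_iff_mem.2 ha, map_zero]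
  let πb : (C ⧸ I.map (algebraMap A C)) →ₐ[A ⧸ I] Cb :=
    { Ideal.Quotient.lift _ π.toRingHom hIπ with
      commutes' := fun a => by
        obtain ⟨a, rfl⟩ := Ideal.Quotient.mk_surjective a
        exact (π.commutes a).trans (IsScalarTower.algebraMap_apply A (A ⧸ I) Cb a) }
  suffices hb : Function.Bijective πb by
    refine ⟨fun z => ⟨fun hz => ?_, fun hz => hIπ hz⟩, fun z => ?_⟩
    · rw [← Ideal.Quotient.eq_zero_iff_mem]
      exact hb.1 ((show πb (Ideal.Quotient.mk _ z) = π z from rfl).trans (hz.trans (map_zero πb).symm))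
    · obtain ⟨w, hw⟩ := hb.2 z
      obtain ⟨w, rfl⟩ := Ideal.Quotient.mk_surjective w
      exact ⟨w, hw⟩
  constructor
  · rw [injective_iff_map_eq_zero]
    intro z
    obtain ⟨z, rfl⟩ := Ideal.Quotient.mk_surjective z
    intro hz
    change π z = 0 at hz
    rw [Ideal.Quotient.eq_zero_iff_mem]
    obtain ⟨N, b, rfl⟩ := Hensel.Henz.exists_ofB z
    rw [Hensel.Henz.proj_ofB] at hz
    let J := I.map (algebraMap A N.B)
    have hJ : J ≤ RingHom.ker N.toK := Ideal.map_le_iff_le_comap.2 fun a ha => by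
      show N.toK (algebraMap A N.B a) = 0
      rw [AlgHom.commutes, IsScalarTower.algebraMap_apply A (A ⧸ I) Cb, Ideal.Quotient.algebraMap_eq,
        Ideal.Quotient.eq_zero_iff_mem.2 ha, map_zero]
    have : Algebra.Etale (A ⧸ I) (N.B ⧸ J) :=
      Algebra.Etale.of_equiv (Algebra.TensorProduct.quotIdealMapEquivQuotTensor N.B I).symm
    let φ : (N.B ⧸ J) →ₐ[A ⧸ I] S.pt := e.symm.toAlgHom.comp
      { Ideal.Quotient.lift J N.toK.toRingHom hJ with
        commutes' := fun a => by
          obtain ⟨a, rfl⟩ := Ideal.Quotient.mk_surjective a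
          exact (N.toK.commutes a).trans (IsScalarTower.algebraMap_apply A (A ⧸ I) Cb a) }
    obtain ⟨j, ψ, hψ⟩ := S.exists_lift (N.B ⧸ J) φ
    obtain ⟨k, f, hk⟩ := S.eq_zero (x := ψ (Ideal.Quotient.mk J b)) (by
      rw [← AlgHom.comp_apply, hψ]
      change e.symm (N.toK b) = 0
      rw [hz, map_zero])
    let ψ' := (S.tr f).comp ψ
    let : Algebra (N.B ⧸ J) (S.A k) := ψ'.toRingHom.toAlgebra
    have : IsScalarTower (A ⧸ I) (N.B ⧸ J) (S.A k) := IsScalarTower.of_algebraMap_eq' ψ'.comp_algebraMap.symm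
    have := hS k
    have : Algebra.Etale (N.B ⧸ J) (S.A k) := Algebra.Etale.of_restrictScalars (R := A ⧸ I) _ _
    obtain ⟨E, _, _, hE, ⟨eE⟩⟩ := Hensel.exists_etale_algebra_lift (A := N.B) (T := N.B ⧸ J) (C := S.A k)
      Ideal.Quotient.mk_surjective
    let eE' := (Algebra.TensorProduct.quotIdealMapEquivQuotTensor E J).trans eE
    let : Algebra A E := ((algebraMap N.B E).comp (algebraMap A N.B)).toAlgebra
    have : IsScalarTower A N.B E := IsScalarTower.of_algebraMap_eq fun _ => rfl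
    have : Algebra.Etale A E := Algebra.Etale.comp A N.B E
    let τ : E →ₐ[A] Cb :=
      { ((e.toAlgHom.comp (S.ι k)).toRingHom.comp eE'.toAlgHom.toRingHom).comp (Ideal.Quotient.mk (J.map (algebraMap N.B E))) with
        commutes' := fun a => by
          change e (S.ι k (eE' (algebraMap (N.B ⧸ J) (E ⧸ J.map (algebraMap N.B E)) (Ideal.Quotient.mk J (algebraMap A N.B a))))) = _
          rw [AlgEquiv.commutes]
          change e (S.ι k (ψ' (algebraMap (A ⧸ I) (N.B ⧸ J) (Ideal.Quotient.mk I a)))) = _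
          rw [AlgHom.commutes, AlgHom.commutes, AlgEquiv.commutes]
          exact (IsScalarTower.algebraMap_apply A (A ⧸ I) Cb a).symm }
    obtain ⟨M, eM, heM⟩ := Hensel.Nbhd.exists_equiv E τ
    let α : N.B →ₐ[A] M.B := eM.symm.toAlgHom.comp (IsScalarTower.toAlgHom A N.B E)
    have hα : M.toK.comp α = N.toK := by
      refine AlgHom.ext fun y => ?_
      simp only [α, heM, AlgHom.comp_apply, AlgEquiv.toAlgHom_apply, AlgEquiv.apply_symm_apply, IsScalarTower.coe_toAlgHom']
      change e (S.ι k (eE' (algebraMap (N.B ⧸ J) (E ⧸ J.map (algebraMap N.B E)) (Ideal.Quotient.mk J y)))) = _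
      rw [AlgEquiv.commutes]
      change e (S.ι k (S.tr f (ψ (Ideal.Quotient.mk J y)))) = _
      rw [IndEtLib.Sys.ι_tr_apply, ← AlgHom.comp_apply, hψ]
      exact e.apply_symm_apply _
    rw [← Hensel.Henz.ofB_comp α hα, AlgHom.comp_apply]
    have hb : algebraMap N.B E b ∈ J.map (algebraMap N.B E) := by
      rw [← Ideal.Quotient.eq_zero_iff_mem]
      refine eE'.injective ?_
      rw [map_zero]
      exact (eE'.commutes (Ideal.Quotient.mk J b)).trans hk
    have h2 := Ideal.mem_map_of_mem ((Hensel.Henz.ofB M).comp eM.symm.toAlgHom).toRingHom hb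
    rw [Ideal.map_map, Ideal.map_map] at h2
    refine (congrArg (fun F : A →+* C => Hensel.Henz.ofB M (α b) ∈ I.map F) ?_).mp h2
    exact ((Hensel.Henz.ofB M).comp α).comp_algebraMap
  · intro z
    obtain ⟨j, y, hy⟩ := S.surj (e.symm z)
    have := hS j
    obtain ⟨E, _, _, hE, ⟨eE⟩⟩ := Hensel.exists_etale_algebra_lift (A := A) (T := A ⧸ I) (C := S.A j) Ideal.Quotient.mk_surjective
    let eE' := (Algebra.TensorProduct.quotIdealMapEquivQuotTensor E I).trans eE
    let τ : E →ₐ[A] Cb :=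
      { ((e.toAlgHom.comp (S.ι j)).toRingHom.comp eE'.toAlgHom.toRingHom).comp (Ideal.Quotient.mk (I.map (algebraMap A E))) with
        commutes' := fun a => by
          change e (S.ι j (eE' (algebraMap (A ⧸ I) (E ⧸ I.map (algebraMap A E)) (Ideal.Quotient.mk I a)))) = _
          rw [AlgEquiv.commutes, AlgHom.commutes, AlgEquiv.commutes]
          exact (IsScalarTower.algebraMap_apply A (A ⧸ I) Cb a).symm }
    obtain ⟨M, eM, heM⟩ := Hensel.Nbhd.exists_equiv E τ
    obtain ⟨w, hw⟩ := eE'.surjective y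
    obtain ⟨w, rfl⟩ := Ideal.Quotient.mk_surjective w
    refine ⟨Ideal.Quotient.mk _ (Hensel.Henz.ofB M (eM.symm w)), ?_⟩
    change π (Hensel.Henz.ofB M (eM.symm w)) = z
    rw [Hensel.Henz.proj_ofB, heM]
    simp only [AlgHom.comp_apply, AlgEquiv.toAlgHom_apply, AlgEquiv.apply_symm_apply]
    change e (S.ι j (eE' (Ideal.Quotient.mk _ w))) = z
    rw [hw, hy, e.apply_symm_apply]


end Groth.Agent.Hensel
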